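/- Camina pairs: orders of centralizers and the Sylow subgroup of the kernel. -/
import Cfsg.Agent.ClassCoprime69.Basic
import Cfsg.Agent.BlocksCharsC.TateNormal

set_option autoImplicit false

namespace CfsgLib.CaminaPair69

open Subgroup CfsgLib.ClassCoprime69

variable {G : Type*} [Group G]

/-- Every class outside `N` is a union of cosets of `N`. -/
def Hyp (N : Subgroup G) : Prop := ∀ g : G, g ∉ N → ∀ n ∈ N, ∃ x : G, x * g * x⁻¹ = g * n

theorem Hyp.map {N : Subgroup G} (h : Hyp N) {Q : Type*} [Group Q] (f : G →* Q)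
    (hf : Function.Surjective f) : Hyp (N.map f) := by
  intro g hg n hn
  obtain ⟨a, rfl⟩ := hf g
  obtain ⟨b, hb, rfl⟩ := mem_map.mp hn
  obtain ⟨x, hx⟩ := h a (fun ha => hg (mem_map.mpr ⟨a, ha, rfl⟩)) b hb
  exact ⟨f x, by rw [← map_inv, ← map_mul, ← map_mul, hx, map_mul]⟩

theorem Hyp.orderOf_mul {N : Subgroup G} (h : Hyp N) {g : G} (hg : g ∉ N) {n : G} (hn : n ∈ N) :
    orderOf (g * n) = orderOf g := by
  obtain ⟨x, hx⟩ := h g hg n hn
  rw [← hx]
  show orderOf ((MulAut.conj x) g) = _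
  exact MulEquiv.orderOf_eq _ _

variable [Finite G]

/-- Elements of `N` commuting with `g ∉ N` of coprime order are trivial. -/
theorem Hyp.eq_one_of_commute {N : Subgroup G} (h : Hyp N) {g x : G} (hg : g ∉ N) (hx : x ∈ N)
    (hc : Commute g x) (hcop : (orderOf g).Coprime (orderOf x)) : x = 1 := by
  have h1 := h.orderOf_mul hg hx
  rw [hc.orderOf_mul_eq_mul_orderOf_of_coprime hcop] at h1
  exact orderOf_eq_one_iff.mp (by
    have := orderOf_pos g
    exact Nat.eq_of_mul_eq_mul_left this (h1.trans (mul_one _).symm))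

theorem coprime_orderOf {p : ℕ} (hp : p.Prime) {g : G} (hg : ∃ k : ℕ, g ^ p ^ k = 1)
    {H : Subgroup G} (hH : ¬ p ∣ Nat.card H) {x : G} (hx : x ∈ H) :
    (orderOf g).Coprime (orderOf x) := by
  obtain ⟨k, hk⟩ := hg
  exact Nat.Coprime.coprime_dvd_left (orderOf_dvd_of_pow_eq_one hk)
    (Nat.Coprime.coprime_dvd_right (Subgroup.orderOf_dvd_natCard H hx)
      ((hp.coprime_iff_not_dvd.mpr hH).pow_left k))

theorem Hyp.card_centralizer_eq {N : Subgroup G} [N.Normal] (h : Hyp N) {g : G} (hg : g ∉ N) :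
    Nat.card (centralizer ({g} : Set G)) =
      Nat.card (centralizer ({(g : G ⧸ N)} : Set (G ⧸ N))) := by
  have hpre : (QuotientGroup.mk : G → G ⧸ N) ⁻¹' cls (g : G ⧸ N) = cls g := by
    ext u
    constructor
    · rintro ⟨q, hq⟩
      obtain ⟨a, rfl⟩ := QuotientGroup.mk_surjective q
      have e : ((a * g * a⁻¹ : G) : G ⧸ N) = (u : G ⧸ N) := hq
      have hn : (a * g * a⁻¹)⁻¹ * u ∈ N := QuotientGroup.eq.mp e
      have hn' : a⁻¹ * ((a * g * a⁻¹)⁻¹ * u) * a ∈ N := by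
        have := (inferInstance : N.Normal).conj_mem _ hn a⁻¹
        rwa [inv_inv] at this
      obtain ⟨x, hx⟩ := h g hg _ hn'
      refine ⟨a * x, ?_⟩
      show a * x * g * (a * x)⁻¹ = u
      calc a * x * g * (a * x)⁻¹ = a * (x * g * x⁻¹) * a⁻¹ := by group
        _ = u := by rw [hx]; group
    · rintro ⟨a, rfl⟩
      exact ⟨(a : G ⧸ N), rfl⟩
  have h1 := Nat.card_congr (QuotientGroup.preimageMkEquivSubgroupProdSet N (cls (g : G ⧸ N)))
  rw [Nat.card_prod, hpre, card_cls, card_cls] at h1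
  have h2 := (centralizer ({g} : Set G)).index_mul_card
  have h3 := (centralizer ({(g : G ⧸ N)} : Set (G ⧸ N))).index_mul_card
  rw [card_eq_card_quotient_mul_card_subgroup N, ← h3] at h2
  change cs g * _ = cs (g : G ⧸ N) * _ * _ at h2
  rw [h1, mul_assoc (cs (g : G ⧸ N)), mul_comm (Nat.card N), mul_assoc] at h2
  have h4 := Nat.eq_of_mul_eq_mul_left (cs_pos (g : G ⧸ N)) h2
  rw [mul_comm (Nat.card N)] at h4
  exact Nat.eq_of_mul_eq_mul_right Nat.card_pos h4

/-- If `r` divides the index of `N` then `R ⊓ N` lies in the derived group of a Sylow `R`. -/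
theorem Hyp.sylow_inf_le_commutator {N : Subgroup G} [N.Normal] (h : Hyp N) {r : ℕ} [Fact r.Prime]
    (hr : r ∣ N.index) (R : Sylow r G) :
    (R : Subgroup G) ⊓ N ≤ ⁅(R : Subgroup G), (R : Subgroup G)⁆ := by
  classical
  haveI := Fintype.ofFinite G
  rintro b ⟨hbR, hbN⟩
  set A := ↥(R : Subgroup G) ⧸ _root_.commutator ↥(R : Subgroup G)
  let μ : ↥(R : Subgroup G) →* A := QuotientGroup.mk' _
  haveI : Fintype A := Fintype.ofFinite A
  obtain ⟨g, hgR, hgN⟩ : ∃ g ∈ (R : Subgroup G), g ∉ N := by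
    by_contra hne
    push Not at hne
    exact R.not_dvd_index (hr.trans (index_dvd_of_le hne))
  have hAcomm : ∀ a c : A, a * c = c * a := fun a c => mul_comm (G := Abelianization ↥(R : Subgroup G)) a c
  -- the cosets fixed by an element, sorted by the value of the conjugate modulo `R'`
  let cell : G → A → Type _ := fun u a =>
    {q : G ⧸ (R : Subgroup G) // ∃ hm : q.out⁻¹ * u * q.out ∈ (R : Subgroup G), μ ⟨_, hm⟩ = a}
  let Φ : G → A → ℕ := fun u a => Nat.card (cell u a)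
  have hconj : ∀ (x u : G) (a : A), Φ (x * u * x⁻¹) a = Φ u a := by
    have key : ∀ (x u : G) (a : A) (q : G ⧸ (R : Subgroup G)),
        (∃ hm : q.out⁻¹ * u * q.out ∈ (R : Subgroup G), μ ⟨_, hm⟩ = a) →
        ∃ hm : (x • q).out⁻¹ * (x * u * x⁻¹) * (x • q).out ∈ (R : Subgroup G), μ ⟨_, hm⟩ = a := by
      rintro x u a q ⟨hm, ha⟩
      have hs : (x * q.out)⁻¹ * (x • q).out ∈ (R : Subgroup G) := by
        refine QuotientGroup.eq.mp ?_
        rw [QuotientGroup.out_eq']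
        conv_rhs => rw [← QuotientGroup.out_eq' q]
        rfl
      set s := (x * q.out)⁻¹ * (x • q).out with hsdef
      have e : (x • q).out⁻¹ * (x * u * x⁻¹) * (x • q).out = s⁻¹ * (q.out⁻¹ * u * q.out) * s := by
        rw [hsdef]; group
      refine ⟨e ▸ mul_mem (mul_mem (inv_mem hs) hm) hs, ?_⟩
      rw [← ha]
      have e' : (⟨_, e ▸ mul_mem (mul_mem (inv_mem hs) hm) hs⟩ : ↥(R : Subgroup G)) =
          (⟨s, hs⟩ : ↥(R : Subgroup G))⁻¹ * ⟨_, hm⟩ * ⟨s, hs⟩ := Subtype.ext e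
      rw [e', map_mul, map_mul, map_inv, hAcomm (μ ⟨s, hs⟩)⁻¹, mul_assoc, inv_mul_cancel, mul_one]
    intro x u a
    symm
    refine Nat.card_congr
      { toFun := fun q => ⟨x • q.1, key x u a q.1 q.2⟩
        invFun := fun q => ⟨x⁻¹ • q.1, ?_⟩
        left_inv := fun q => Subtype.ext (inv_smul_smul x q.1)
        right_inv := fun q => Subtype.ext (smul_inv_smul x q.1) }
    have := key x⁻¹ _ a q.1 q.2
    rwa [show x⁻¹ * (x * u * x⁻¹) * x⁻¹⁻¹ = u by group] at this
  have hsum : ∀ a : A, Nat.card (Σ n : N, cell (g * n) a) = Nat.card N * Φ g a := by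
    intro a
    haveI : Fintype N := Fintype.ofFinite N
    rw [Nat.card_sigma, Finset.sum_eq_card_nsmul (b := Φ g a) fun n _ => ?_, Finset.card_univ,
      smul_eq_mul, Nat.card_eq_fintype_card]
    obtain ⟨x, hx⟩ := h g hgN n n.2
    show Φ (g * n) a = Φ g a
    rw [← hx, hconj]
  have hle : ∀ (a : A) (c : G) (hcR : c ∈ (R : Subgroup G)), c ∈ N →
      Φ g a ≤ Φ g (a * μ ⟨c, hcR⟩) := by
    intro a c hcR hcN
    refine Nat.le_of_mul_le_mul_left (?_ : Nat.card N * _ ≤ Nat.card N * _) Nat.card_pos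
    rw [← hsum, ← hsum]
    refine Nat.card_le_card_of_injective (fun p => ⟨⟨p.1 * (p.2.1.out * c * p.2.1.out⁻¹),
      mul_mem p.1.2 ((inferInstance : N.Normal).conj_mem c hcN _)⟩, p.2.1, ?_⟩) ?_
    · obtain ⟨hm, ha⟩ := p.2.2
      have e : p.2.1.out⁻¹ * (g * ((p.1 : G) * (p.2.1.out * c * p.2.1.out⁻¹))) * p.2.1.out =
          p.2.1.out⁻¹ * (g * p.1) * p.2.1.out * c := by group
      refine ⟨e ▸ mul_mem hm hcR, ?_⟩
      refine (congrArg μ (Subtype.ext e : (⟨_, e ▸ mul_mem hm hcR⟩ : ↥(R : Subgroup G)) =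
        ⟨_, hm⟩ * ⟨c, hcR⟩)).trans ?_
      rw [map_mul, ha]
    · rintro ⟨n₁, q₁⟩ ⟨n₂, q₂⟩ he
      have e3 : q₁.1 = q₂.1 :=
        congrArg (fun p : Σ n : N, cell (g * n) (a * μ ⟨c, hcR⟩) => p.2.1) he
      have e1 : (n₁ : G) * (q₁.1.out * c * q₁.1.out⁻¹) = n₂ * (q₂.1.out * c * q₂.1.out⁻¹) :=
        congrArg (fun p : Σ n : N, cell (g * n) (a * μ ⟨c, hcR⟩) => (p.1 : G)) he
      rw [e3] at e1
      obtain rfl : n₁ = n₂ := Subtype.ext (mul_right_cancel e1)
      exact Sigma.subtype_ext rfl e3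
  let B : Subgroup A := zpowers (μ ⟨b, hbR⟩)
  have hinv : ∀ a : A, ∀ c ∈ B, Φ g (a * c) = Φ g a := by
    intro a c hc
    obtain ⟨i, rfl⟩ := mem_zpowers_iff.mp hc
    have e : ∀ j : ℤ, μ ⟨b, hbR⟩ ^ j = μ ⟨b ^ j, Subgroup.zpow_mem (R : Subgroup G) hbR j⟩ := fun j => by
      rw [← map_zpow]; exact congrArg μ (Subtype.ext (Subgroup.coe_zpow _ _ _))
    refine le_antisymm ?_ ((e i).symm ▸ hle a _ _ (Subgroup.zpow_mem N hbN i))
    have h1 := hle (a * μ ⟨b, hbR⟩ ^ i) _ (Subgroup.zpow_mem (R : Subgroup G) hbR (-i)) (Subgroup.zpow_mem N hbN (-i))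
    rw [← e (-i), mul_assoc, ← zpow_add, add_neg_cancel, zpow_zero, mul_one] at h1
    exact h1
  -- the fixed points of `g` on the cosets
  have hfix : Nat.card (MulAction.fixedPoints (zpowers g) (G ⧸ (R : Subgroup G))) =
      ∑ a : A, Φ g a := by
    have key : ∀ q : G ⧸ (R : Subgroup G),
        q ∈ MulAction.fixedPoints (zpowers g) (G ⧸ (R : Subgroup G)) ↔
          q.out⁻¹ * g * q.out ∈ (R : Subgroup G) := by
      intro q
      have e : g • q = q ↔ q.out⁻¹ * g * q.out ∈ (R : Subgroup G) := by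
        rw [mul_assoc]
        conv_lhs => rw [eq_comm, ← QuotientGroup.out_eq' q]
        exact QuotientGroup.eq
      rw [← e]
      refine ⟨fun hq => hq ⟨g, mem_zpowers g⟩, fun hq u => ?_⟩
      obtain ⟨i, hi⟩ := mem_zpowers_iff.mp u.2
      show (u : G) • q = q
      rw [← hi]
      exact (zpow_mem (MulAction.mem_stabilizer_iff.mpr hq) i : g ^ i ∈ MulAction.stabilizer G q)
    rw [← Nat.card_sigma]
    exact Nat.card_congr
      { toFun := fun q => ⟨μ ⟨_, (key q.1).mp q.2⟩, q.1, _, rfl⟩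
        invFun := fun p => ⟨p.2.1, (key _).mpr p.2.2.choose⟩
        left_inv := fun q => rfl
        right_inv := fun p => Sigma.subtype_ext p.2.2.choose_spec rfl }
  have hmod := (R.isPGroup'.to_le (zpowers_le.mpr hgR)).card_modEq_card_fixedPoints
    (G ⧸ (R : Subgroup G))
  rw [hfix, ← index_eq_card] at hmod
  have hB : B = ⊥ := by
    rcases ((R.isPGroup'.of_surjective μ (QuotientGroup.mk'_surjective _)).to_subgroup B).card_eq_or_dvd
      with h1 | h1
    · exact eq_bot_of_card_eq B h1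
    exfalso
    refine R.not_dvd_index (Nat.modEq_zero_iff_dvd.mp (hmod.trans (Nat.modEq_zero_iff_dvd.mpr ?_)))
    refine h1.trans ⟨∑ c : A ⧸ B, Φ g c.out, ?_⟩
    rw [Finset.mul_sum, ← Fintype.sum_equiv (Subgroup.groupEquivQuotientProdSubgroup (s := B)).symm
      (fun z => Φ g z.1.out) (Φ g) ?_, Fintype.sum_prod_type]
    · simp [Finset.sum_const, Nat.card_eq_fintype_card]
    · rintro ⟨c, d⟩
      obtain ⟨d', hd', e⟩ : ∃ d' ∈ B, (Subgroup.groupEquivQuotientProdSubgroup (s := B)).symm (c, d) = c.out * d' := by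
        refine ⟨c.out⁻¹ * (Subgroup.groupEquivQuotientProdSubgroup (s := B)).symm (c, d), ?_, by group⟩
        refine QuotientGroup.eq.mp ?_
        rw [QuotientGroup.out_eq']
        have := congrArg Prod.fst ((Subgroup.groupEquivQuotientProdSubgroup (s := B)).apply_symm_apply (c, d))
        exact this.symm
      show Φ g c.out = Φ g _
      rw [e, hinv _ _ hd']
  have h2 : μ ⟨b, hbR⟩ = 1 := by
    have h5 : μ ⟨b, hbR⟩ ∈ B := mem_zpowers _
    rw [hB] at h5
    exact mem_bot.mp h5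
  have h3 : (⟨b, hbR⟩ : ↥(R : Subgroup G)) ∈ _root_.commutator ↥(R : Subgroup G) :=
    (QuotientGroup.eq_one_iff _).mp h2
  have h4 := mem_map_of_mem (R : Subgroup G).subtype h3
  rwa [map_subtype_commutator] at h4

end CfsgLib.CaminaPair69
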