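/- Camina's trichotomy. -/
import Cfsg.Agent.CaminaPair69.Basic
import Cfsg.Agent.ThompsonFpf.Nilpotency
import Cfsg.Agent.Coprime.Generation
import Cfsg.Agent.BlocksCharsC.PGroupCenter
import Cfsg.Agent.TwoSizes69.Fpf
import Cfsg.Agent.PiClasses69.Parts
import Cfsg.Agent.Solvable.Nilpotent

set_option autoImplicit false

namespace CfsgLib.CaminaPair69

open Subgroup CfsgLib.ClassCoprime69

variable {G : Type*} [Group G] [Finite G]

/-- `Q` has no elementary abelian subgroup of order `q ^ 2`. -/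
def NoSq (q : ℕ) (Q : Type*) [Group Q] : Prop :=
  ∀ a b : Q, a ^ q = 1 → b ^ q = 1 → Commute a b → a ≠ 1 → b ∈ zpowers a

theorem noSq_of_nilpotent {N : Subgroup G} [N.Normal] (h : Hyp N) (hnil : Group.IsNilpotent N)
    (hN : N ≠ ⊥) {q : ℕ} [Fact q.Prime] (hq : ¬ q ∣ Nat.card N) {Q : Type*} [Group Q]
    (ψ : G →* Q) (hψ : Function.Surjective ψ) (hker : ψ.ker = N) : NoSq q Q := by
  classical
  have hqp : q.Prime := Fact.out
  intro a b ha hb hab ha1
  by_contra hba
  haveI : Finite Q := Finite.of_surjective ψ hψ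
  -- lifts in a Sylow subgroup of the preimage
  let A : Subgroup Q := closure {a, b}
  have haA : a ∈ A := subset_closure (Set.mem_insert a {b})
  have hbA : b ∈ A := subset_closure (Set.mem_insert_of_mem a rfl)
  have hAc : ∀ u ∈ A, ∀ w ∈ A, Commute u w := by
    have h1 : A ≤ centralizer ({a, b} : Set Q) := by
      refine (closure_le _).mpr ?_
      rintro u (rfl | rfl) <;>
        refine mem_centralizer_iff.mpr ?_ <;> rintro w (rfl | rfl) <;>
        first | rfl | exact hab.eq | exact hab.eq.symm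
    intro u hu w hw
    have h2 : A ≤ centralizer (A : Set Q) := by
      refine (closure_le _).mpr fun c hc => mem_centralizer_iff.mpr fun d hd => ?_
      exact (mem_centralizer_iff.mp (h1 hd) c hc).symm
    exact ((mem_centralizer_iff.mp (h2 hu)) w hw).symm
  have hAq : IsPGroup q A := by
    intro u
    refine ⟨1, Subtype.ext ?_⟩
    rw [pow_one, Subgroup.coe_pow, Subgroup.coe_one]
    obtain ⟨u, hu⟩ := u
    show u ^ q = 1
    induction hu using closure_induction with
    | mem u hu =>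
      rcases hu with rfl | rfl
      · exact ha
      · exact hb
    | one => exact one_pow _
    | mul u w hu hw e1 e2 => rw [(hAc u hu w hw).mul_pow, e1, e2, one_mul]
    | inv u _ e => rw [inv_pow, e, inv_one]
  set L := A.comap ψ
  have hlift : ∀ u ∈ A, ∀ S : Sylow q L, ∃ s ∈ (S : Subgroup L), ψ s = u := by
    intro u hu S
    let f : L →* A := (ψ.comp L.subtype).codRestrict A (fun l => l.2)
    have hf : Function.Surjective f := by
      rintro ⟨w, hw⟩
      obtain ⟨g, rfl⟩ := hψ w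
      exact ⟨⟨g, hw⟩, rfl⟩
    have htop : (S : Subgroup L).map f = ⊤ := by
      obtain ⟨k, hk⟩ := IsPGroup.iff_card.mp hAq
      have hd : ((S : Subgroup L).map f).index ∣ (S : Subgroup L).index := index_map_dvd _ hf
      refine index_eq_one.mp (Nat.eq_one_of_dvd_coprimes
        ((hqp.coprime_iff_not_dvd.mpr S.not_dvd_index).pow_left k) (hk ▸ index_dvd_card _) hd)
    obtain ⟨s, hs, e⟩ := mem_map.mp (htop ▸ mem_top (⟨u, hu⟩ : A) : (⟨u, hu⟩ : A) ∈ (S : Subgroup L).map f)
    exact ⟨s, hs, congrArg Subtype.val e⟩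
  obtain ⟨S⟩ : Nonempty (Sylow q L) := inferInstance
  obtain ⟨s, hs, hsa⟩ := hlift a haA S
  obtain ⟨t, ht, htb⟩ := hlift b hbA S
  have htriv : ∀ u ∈ (S : Subgroup L), ψ u = 1 → (u : G) = 1 := by
    intro u hu hu1
    obtain ⟨k, hk⟩ := S.isPGroup' ⟨u, hu⟩
    have hk' : (u : G) ^ q ^ k = 1 := by
      have := congrArg (fun z : (S : Subgroup L) => ((z : L) : G)) hk
      simpa using this
    have huN : (u : G) ∈ N := hker ▸ hu1
    exact orderOf_eq_one_iff.mp (Nat.eq_one_of_dvd_coprimes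
      ((hqp.coprime_iff_not_dvd.mpr hq).pow_left k) (orderOf_dvd_of_pow_eq_one hk')
      (Subgroup.orderOf_dvd_natCard N huN))
  set a' : G := (s : G)
  set b' : G := (t : G)
  have hψc : ψ (s * t * s⁻¹ * t⁻¹ : L) = 1 := by
    show ψ (a' * b' * a'⁻¹ * b'⁻¹) = 1
    rw [map_mul, map_mul, map_mul, map_inv, map_inv, hsa, htb, hab.eq, mul_inv_cancel_right,
      mul_inv_cancel]
  have hab' : Commute a' b' := by
    have h1 := htriv _ (mul_mem (mul_mem (mul_mem hs ht) (inv_mem hs)) (inv_mem ht)) hψc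
    change a' * b' * a'⁻¹ * b'⁻¹ = 1 at h1
    exact mul_inv_eq_iff_eq_mul.mp (mul_inv_eq_one.mp h1)
  have ha' : a' ^ q = 1 := htriv (s ^ q) (pow_mem hs q) (by
    show ψ (a' ^ q) = 1
    rw [map_pow, hsa, ha])
  have hb' : b' ^ q = 1 := htriv (t ^ q) (pow_mem ht q) (by
    show ψ (b' ^ q) = 1
    rw [map_pow, htb, hb])
  -- action on the centre of `N`
  haveI := hnil
  set Z : Subgroup G := (center N).map N.subtype with hZ
  haveI : Z.Normal := ConjAct.normal_of_characteristic_of_normal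
  haveI hZc : IsMulCommutative Z := by
    refine ⟨⟨fun u w => Subtype.ext ?_⟩⟩
    obtain ⟨u', hu', e1⟩ := mem_map.mp u.2
    obtain ⟨w', hw', e2⟩ := mem_map.mp w.2
    show (u : G) * w = w * u
    rw [← e1, ← e2, ← map_mul, ← map_mul, mem_center_iff.mp hu' w']
  open scoped IsMulCommutative in
  have hexp : ∀ x : Z, x ^ q = 1 := fun x => by
    have := CfsgLib.TwoSizes69.pow_mem_of_two_fixed (r := q) (MulAut.conjNormal a' : MulAut Z)
      (MulAut.conjNormal b') (hab'.map _) (by rw [← map_pow, ha', map_one])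
      (by rw [← map_pow, hb', map_one]) (⊥ : Subgroup Z) (fun i j hi hj hij x hx => ?_) x
    · exact mem_bot.mp this
    rw [← map_pow, ← map_pow, ← map_mul] at hx
    have hxN : (x : G) ∈ N := map_subtype_le _ x.2
    set g := a' ^ i * b' ^ j with hg
    have hgx : g * x * g⁻¹ = (x : G) := by
      have := congrArg Subtype.val hx
      rwa [MulAut.conjNormal_apply] at this
    have hψg : ψ g = a ^ i * b ^ j := by rw [hg, map_mul, map_pow, map_pow, hsa, htb]
    have hgN : g ∉ N := fun hgN => by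
      have e : a ^ i * b ^ j = 1 := by rw [← hψg]; exact (hker.symm ▸ hgN : g ∈ ψ.ker)
      have hoa : orderOf a = q := (Nat.dvd_prime hqp).mp (orderOf_dvd_of_pow_eq_one ha) |>.resolve_left
        (fun e => ha1 (orderOf_eq_one_iff.mp e))
      by_cases hj0 : j = 0
      · rw [hj0, pow_zero, mul_one, ← orderOf_dvd_iff_pow_eq_one, hoa] at e
        exact Nat.not_dvd_of_pos_of_lt (by omega) hi e
      · have hbj : b ^ j ∈ zpowers a := by
          rw [eq_inv_of_mul_eq_one_right e]; exact inv_mem (pow_mem (mem_zpowers a) i)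
        refine hba (mem_zpowers_iff.mpr ?_)
        obtain ⟨c, hc⟩ := exists_pow_eq_self_of_coprime (n := j) (x := b) (Nat.Coprime.coprime_dvd_right
          (orderOf_dvd_of_pow_eq_one hb) ((hqp.coprime_iff_not_dvd.mpr
            (Nat.not_dvd_of_pos_of_lt (Nat.pos_of_ne_zero hj0) hj)).symm))
        exact mem_zpowers_iff.mp (hc ▸ pow_mem hbj c)
    refine mem_bot.mpr (Subtype.ext (h.eq_one_of_commute hgN hxN (mul_inv_eq_iff_eq_mul.mp hgx) ?_))
    refine coprime_orderOf hqp ⟨1, ?_⟩ hq hxN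
    rw [pow_one, hg, ((hab'.pow_pow i j)).mul_pow, ← pow_mul, ← pow_mul, mul_comm i, mul_comm j,
      pow_mul, pow_mul, ha', hb', one_pow, one_pow, one_mul]
  haveI : Nontrivial N := nontrivial_iff_ne_bot N |>.mpr hN
  have hne : center N ≠ ⊥ := by
    have h1 := CfsgLib.Solvable.inf_center_ne_bot (G := N) (N := ⊤) (by simp)
    rwa [top_inf_eq] at h1
  refine hne ((eq_bot_iff_forall _).mpr fun u hu => ?_)
  have h1 : ((u : N) : G) ^ q = 1 := congrArg Subtype.val (hexp ⟨u, mem_map_of_mem _ hu⟩)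
  refine Subtype.ext (orderOf_eq_one_iff.mp (Nat.eq_one_of_dvd_coprimes
    (hqp.coprime_iff_not_dvd.mpr hq) (orderOf_dvd_of_pow_eq_one h1) (Subgroup.orderOf_dvd_natCard N u.2)))

/-- A common prime `q` of `|N|` and the index excludes `NoSq q` for `G ⧸ N`. -/
theorem Hyp.not_noSq {N : Subgroup G} [N.Normal] (h : Hyp N) {q : ℕ} [Fact q.Prime]
    (hqN : q ∣ Nat.card N) (hqi : q ∣ N.index) (hno : NoSq q (G ⧸ N)) : False := by
  classical
  have hqp : q.Prime := Fact.out
  -- a `q`-element of maximal order modulo `N`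
  obtain ⟨e0, he0⟩ := exists_prime_orderOf_dvd_card' (G := G ⧸ N) q (index_eq_card N ▸ hqi)
  haveI : Nonempty {u : G ⧸ N // ∃ k, u ^ q ^ k = 1} :=
    ⟨⟨e0, 1, by rw [pow_one, ← he0, pow_orderOf_eq_one]⟩⟩
  obtain ⟨⟨u, k0, hk0⟩, humax⟩ := Finite.exists_max
    (fun u : {u : G ⧸ N // ∃ k, u ^ q ^ k = 1} => orderOf (u : G ⧸ N))
  have hu1 : u ≠ 1 := fun e => by
    have h1 := humax ⟨e0, 1, by rw [pow_one, ← he0, pow_orderOf_eq_one]⟩
    simp only [he0, e, orderOf_one] at h1
    have := hqp.one_lt; omega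
  -- `q`-elements commuting with `u` are powers of it
  have hpow : ∀ w : G ⧸ N, (∃ k, w ^ q ^ k = 1) → Commute u w → w ∈ zpowers u := by
    intro w hw hc
    let A : Subgroup (G ⧸ N) := closure {u, w}
    haveI : IsMulCommutative A := Subgroup.isMulCommutative_closure (by
      rintro a (rfl | rfl) b (rfl | rfl) <;> first | rfl | exact hc.eq | exact hc.eq.symm)
    have hAq : ∀ v ∈ A, ∃ k, v ^ q ^ k = 1 := by
      intro v hv
      induction hv using closure_induction with
      | mem v hv =>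
        rcases hv with rfl | rfl
        · exact ⟨k0, hk0⟩
        · exact hw
      | one => exact ⟨0, one_pow _⟩
      | mul v v' hv hv' e1 e2 =>
        obtain ⟨i, hi⟩ := e1
        obtain ⟨j, hj⟩ := e2
        refine ⟨i + j, ?_⟩
        have hcv : Commute v v' := congrArg Subtype.val (mul_comm' (⟨v, hv⟩ : A) ⟨v', hv'⟩)
        rw [hcv.mul_pow, pow_add, pow_mul, hi, mul_comm, pow_mul, hj, one_pow, one_pow, one_mul]
      | inv v _ e => obtain ⟨i, hi⟩ := e; exact ⟨i, by rw [inv_pow, hi, inv_one]⟩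
    have hcyc : IsCyclic A := by
      by_contra hnc
      open scoped IsMulCommutative in
      obtain ⟨r, hr, a, b, ha, hb, ha1, hba⟩ := CfsgLib.Coprime.exists_independent_of_not_isCyclic hnc
      obtain ⟨i, hi⟩ := hAq a a.2
      have ha' : (a : G ⧸ N) ^ r = 1 := congrArg Subtype.val ha
      have e : r = q := by
        by_contra hne
        refine ha1 (Subtype.ext (orderOf_eq_one_iff.mp (Nat.eq_one_of_dvd_coprimes
          (((Nat.coprime_primes hr hqp).mpr hne).pow_right i) (orderOf_dvd_of_pow_eq_one ha')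
          (orderOf_dvd_of_pow_eq_one hi))))
      subst e
      obtain ⟨j, hj⟩ := mem_zpowers_iff.mp (hno a b ha' (congrArg Subtype.val hb)
        (congrArg Subtype.val (mul_comm' a b)) (fun e => ha1 (Subtype.ext e)))
      exact hba (mem_zpowers_iff.mpr ⟨j, Subtype.ext (by simpa using hj)⟩)
    obtain ⟨⟨t, ht⟩, hgen⟩ := hcyc.exists_generator
    have hgen' : ∀ v ∈ A, v ∈ zpowers t := by
      intro v hv
      obtain ⟨i, hi⟩ := mem_zpowers_iff.mp (hgen ⟨v, hv⟩)
      exact mem_zpowers_iff.mpr ⟨i, by simpa using congrArg Subtype.val hi⟩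
    have hut : zpowers u = zpowers t := by
      refine eq_of_le_of_card_ge (zpowers_le.mpr (hgen' u (subset_closure (Set.mem_insert u {w})))) ?_
      rw [Nat.card_zpowers, Nat.card_zpowers]
      exact humax ⟨t, hAq t ht⟩
    rw [hut]
    exact hgen' w (subset_closure (Set.mem_insert_of_mem u rfl))
  -- a lift `g` of `u`, a `q`-element, and `c ∈ N` commuting with it
  obtain ⟨g0, hg0⟩ := QuotientGroup.mk_surjective u
  obtain ⟨g, hgu, k, hk⟩ : ∃ g : G, (g : G ⧸ N) = u ∧ ∃ k, g ^ q ^ k = 1 := by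
    refine ⟨PiClasses69.piPart {q} g0, ?_, ?_⟩
    · have h1 : PiClasses69.piComplPart {q} g0 ∈ N := by
        rw [← QuotientGroup.eq_one_iff, ← orderOf_eq_one_iff]
        refine Nat.eq_one_of_dvd_coprimes ?_ (orderOf_map_dvd (QuotientGroup.mk' N) _) ?_ (b := q ^ k0)
        · refine Nat.Coprime.pow_right k0 ((hqp.coprime_iff_not_dvd.mpr fun hd => ?_).symm)
          exact PiClasses69.isPiCompl_piComplPart {q} g0 q hqp hd rfl
        · refine orderOf_dvd_of_pow_eq_one ?_
          show (QuotientGroup.mk' N ((g0 ^ PiClasses69.piExp G {q})⁻¹ * g0)) ^ q ^ k0 = 1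
          rw [map_mul, map_inv, map_pow, show QuotientGroup.mk' N g0 = u from hg0,
            ((Commute.refl u).pow_left _).inv_left.mul_pow, inv_pow,
            pow_right_comm, hk0, one_pow, inv_one, one_mul]
      rw [← hg0]
      refine QuotientGroup.eq.mpr ?_
      exact h1
    · obtain ⟨j, hj⟩ : ∃ j, orderOf (PiClasses69.piPart {q} g0) = q ^ j :=
        ⟨_, Nat.eq_prime_pow_of_unique_prime_dvd (orderOf_pos _).ne' fun hd hdd =>
          PiClasses69.isPi_piPart {q} g0 _ hd hdd⟩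
      exact ⟨j, hj ▸ pow_orderOf_eq_one _⟩
  have hgN : g ∉ N := fun hg => hu1 (hgu ▸ (QuotientGroup.eq_one_iff g).mpr hg)
  have hzp : IsPGroup q (zpowers g) := by
    rintro ⟨v, hv⟩
    obtain ⟨i, rfl⟩ := mem_zpowers_iff.mp hv
    refine ⟨k, Subtype.ext ?_⟩
    show (g ^ i) ^ q ^ k = 1
    rw [← zpow_natCast, ← zpow_mul, mul_comm, zpow_mul, zpow_natCast, hk, one_zpow]
  obtain ⟨S, hS⟩ := hzp.exists_le_sylow
  set S0 := N.subgroupOf (S : Subgroup G)
  have hS0 : S0 ≠ ⊥ := by
    intro e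
    have h1 := relIndex_dvd_index_normal N (S : Subgroup G)
    have h2 : (S : Subgroup G).relIndex N = Nat.card N := by
      rw [← inf_relIndex_right, (disjoint_iff.mp (subgroupOf_eq_bot.mp e).symm), relIndex_bot_left]
    exact S.not_dvd_index (hqN.trans (h2 ▸ h1))
  haveI : Nontrivial S0 := (nontrivial_iff_ne_bot _).mpr hS0
  obtain ⟨c, hc, hc1⟩ := (bot_or_exists_ne_one _).resolve_left
    (CfsgLib.BlocksCharsC.inf_center_ne_bot S.isPGroup' S0)
  obtain ⟨hcN, hcZ⟩ := mem_inf.mp hc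
  have hgS : g ∈ (S : Subgroup G) := hS (mem_zpowers g)
  have hcg : Commute g (c : G) := congrArg Subtype.val (mem_center_iff.mp hcZ ⟨g, hgS⟩)
  -- the order of a `q`-subgroup of the centralizer
  set D : Subgroup G := zpowers g ⊔ zpowers (c : G)
  have hDC : D ≤ centralizer ({g} : Set G) := sup_le (zpowers_le.mpr (mem_Cx_self g))
    (zpowers_le.mpr (mem_Cx.mpr hcg.eq.symm))
  have hDq : IsPGroup q D := S.isPGroup'.to_le (sup_le hS (zpowers_le.mpr c.2))
  obtain ⟨b, hb⟩ := IsPGroup.iff_card.mp hDq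
  have hd : q ^ b ∣ Nat.card (centralizer ({u} : Set (G ⧸ N))) := by
    rw [← hgu, ← h.card_centralizer_eq hgN, ← hb]
    exact card_dvd_of_le hDC
  obtain ⟨T, hT⟩ := Sylow.exists_subgroup_card_pow_prime q hd
  have hTu : Nat.card T ≤ Nat.card (zpowers u) := by
    refine Nat.card_le_card_of_injective (fun v : T => (⟨((v : centralizer ({u} : Set (G ⧸ N))) : G ⧸ N),
      hpow _ ?_ ?_⟩ : zpowers u)) (fun v w e => Subtype.ext (Subtype.ext (congrArg (fun z : zpowers u => (z : G ⧸ N)) e)))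
    · obtain ⟨i, hi⟩ := (IsPGroup.of_card hT) v
      exact ⟨i, congrArg (fun z : T => ((z : centralizer ({u} : Set (G ⧸ N))) : G ⧸ N)) hi⟩
    · exact (mem_Cx.mp v.1.2).symm
  let φ : D → zpowers u := fun d => ⟨(d : G), by
    have hle : D ≤ (zpowers u).comap (QuotientGroup.mk' N) := by
      refine sup_le (zpowers_le.mpr ?_) (zpowers_le.mpr ?_)
      · show (g : G ⧸ N) ∈ zpowers u
        rw [hgu]; exact mem_zpowers u
      · show ((c : G) : G ⧸ N) ∈ zpowers u
        rw [(QuotientGroup.eq_one_iff (c : G)).mpr (mem_subgroupOf.mp hcN)]; exact one_mem _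
    exact hle d.2⟩
  have hφ : Function.Surjective φ := by
    rintro ⟨v, hv⟩
    obtain ⟨i, rfl⟩ := mem_zpowers_iff.mp hv
    refine ⟨⟨g ^ i, zpow_mem (mem_sup_left (mem_zpowers g)) i⟩, Subtype.ext ?_⟩
    show ((g ^ i : G) : G ⧸ N) = u ^ i
    rw [← hgu]; rfl
  have hinj : Function.Injective φ :=
    (hφ.bijective_of_nat_card_le (by rw [hT] at hTu; omega)).1
  have e : φ ⟨(c : G), mem_sup_right (mem_zpowers _)⟩ = φ ⟨1, one_mem D⟩ := Subtype.ext
    ((QuotientGroup.eq_one_iff (c : G)).mpr (mem_subgroupOf.mp hcN))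
  exact hc1 (Subtype.ext (congrArg (fun d : D => (d : G)) (hinj e)))

theorem Hyp.false_of_quotient {N K : Subgroup G} [N.Normal] [K.Normal] (h : Hyp N) (hKN : K ≤ N)
    (hnil : Group.IsNilpotent (N.map (QuotientGroup.mk' K))) (hlt : ¬ N ≤ K) {q : ℕ} [Fact q.Prime]
    (hq : ¬ q ∣ K.relIndex N) (hqN : q ∣ Nat.card N) (hqi : q ∣ N.index) : False := by
  haveI : (N.map (QuotientGroup.mk' K)).Normal :=
    (inferInstance : N.Normal).map _ (QuotientGroup.mk'_surjective K)
  let ψ : G ⧸ K →* G ⧸ N := QuotientGroup.lift K (QuotientGroup.mk' N)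
    (by rwa [QuotientGroup.ker_mk'])
  refine h.not_noSq hqN hqi (noSq_of_nilpotent (h.map _ (QuotientGroup.mk'_surjective K)) hnil ?_ ?_ ψ
    (fun y => ?_) ?_)
  · rwa [Ne, Subgroup.map_eq_bot_iff, QuotientGroup.ker_mk']
  · rwa [← relIndex_bot_left, ← relIndex_comap, MonoidHom.comap_bot, QuotientGroup.ker_mk']
  · obtain ⟨g, rfl⟩ := QuotientGroup.mk'_surjective N y
    exact ⟨(g : G ⧸ K), rfl⟩
  · rw [QuotientGroup.ker_lift, QuotientGroup.ker_mk']

/-- Camina's trichotomy. -/
theorem Hyp.trichotomy {N : Subgroup G} [N.Normal] (h : Hyp N) (hN1 : N ≠ ⊥) (hN2 : N ≠ ⊤) :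
    (∀ x ∈ N, x ≠ 1 → centralizer ({x} : Set G) ≤ N) ∨ IsPrimePow (Nat.card N) ∨ IsPrimePow N.index := by
  classical
  by_cases hcop : (Nat.card N).Coprime N.index
  · left
    intro x hx hx1 g hg
    by_contra hgN
    refine hx1 (h.eq_one_of_commute (g := g ^ Nat.card N) (fun hmem => hgN ?_) hx
      (Commute.pow_left (mem_Cx.mp hg) _) ?_)
    · have h1 : g ^ N.index ∈ N := pow_index_mem N g
      have h2 : (g : G ⧸ N) = 1 := orderOf_eq_one_iff.mp (Nat.eq_one_of_dvd_coprimes hcop
        (orderOf_dvd_of_pow_eq_one ((QuotientGroup.eq_one_iff _).mpr hmem))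
        (orderOf_dvd_of_pow_eq_one ((QuotientGroup.eq_one_iff _).mpr h1)))
      exact (QuotientGroup.eq_one_iff g).mp h2
    · refine Nat.Coprime.coprime_dvd_left (orderOf_dvd_of_pow_eq_one ?_)
        (Nat.Coprime.coprime_dvd_right (Subgroup.orderOf_dvd_natCard N hx) hcop.symm)
      rw [← pow_mul, N.card_mul_index, pow_card_eq_one']
  right
  obtain ⟨p, hp, hpg⟩ := Nat.exists_prime_and_dvd hcop
  obtain ⟨hpN, hpi⟩ := Nat.dvd_gcd_iff.mp hpg
  haveI := Fact.mk hp
  by_contra hne
  push Not at hne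
  obtain ⟨hN3, hN4⟩ := hne
  have hnotpow : ∀ (d : ℕ), 0 < d → ¬ IsPrimePow d → p ∣ d → ∃ q : ℕ, q.Prime ∧ q ≠ p ∧ q ∣ d := by
    intro d hd0 hd hpd
    by_contra hall
    push Not at hall
    have e := Nat.eq_prime_pow_of_unique_prime_dvd hd0.ne'
      (fun {r} hr hrd => by_contra fun hne => hall r hr hne hrd)
    refine hd ⟨p, d.primeFactorsList.length, hp.prime, Nat.pos_of_ne_zero fun e0 => ?_, e.symm⟩
    rw [e0, pow_zero] at e
    rw [e] at hpd
    exact hp.not_dvd_one hpd
  obtain ⟨q, hq, hqp, hqi⟩ := hnotpow N.index (Nat.pos_of_ne_zero index_ne_zero_of_finite) hN4 hpi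
  haveI := Fact.mk hq
  by_cases hqN : q ∣ Nat.card N
  · -- the normal `p`-complement of `N`
    obtain ⟨R⟩ : Nonempty (Sylow p G) := inferInstance
    have hM := CfsgLib.Transfer.hasNormalPComplement_iff.mp
      (CfsgLib.BlocksCharsC.hasNormalPComplement_of_inf_le_commutator R N
        (h.sylow_inf_le_commutator hpi R))
    set M : Subgroup N := Cfsg.pResidual p N
    set K : Subgroup G := M.map N.subtype
    haveI : K.Normal := ConjAct.normal_of_characteristic_of_normal
    have hKN : K ≤ N := map_subtype_le M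
    have hrel : K.relIndex N = M.index := by
      rw [relIndex, subgroupOf, comap_map_eq_self_of_injective N.subtype_injective]
    have hquot : IsPGroup p (N.map (QuotientGroup.mk' K)) := by
      rintro ⟨_, n, hn, rfl⟩
      obtain ⟨k, hk⟩ := CfsgLib.Transfer.isPGroup_quotient_pResidual (p := p) (G := N)
        ((⟨n, hn⟩ : N) : N ⧸ M)
      refine ⟨k, Subtype.ext ?_⟩
      show (QuotientGroup.mk' K n) ^ p ^ k = 1
      rw [← map_pow]
      refine (QuotientGroup.eq_one_iff _).mpr (mem_map.mpr ⟨⟨n, hn⟩ ^ p ^ k, ?_, by simp⟩)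
      exact (QuotientGroup.eq_one_iff _).mp hk
    obtain ⟨j, hj⟩ := IsPGroup.iff_card.mp
      (CfsgLib.Transfer.isPGroup_quotient_pResidual (p := p) (G := N))
    refine h.false_of_quotient hKN hquot.isNilpotent (fun hle => hM ?_) ?_ hqN hqi
    · have : M = ⊤ := eq_top_iff.mpr fun n _ =>
        (mem_map_iff_mem N.subtype_injective).mp (hle n.2 : N.subtype n ∈ M.map N.subtype)
      rw [this, card_top]; exact hpN
    · rw [hrel, index_eq_card, hj]
      exact fun hd => hqp ((Nat.prime_dvd_prime_iff_eq hq hp).mp (hq.dvd_of_dvd_pow hd))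
  · -- an element of order `q` acting fixed-point-freely
    obtain ⟨g, hg⟩ := exists_prime_orderOf_dvd_card' (G := G) q (hqi.trans (index_dvd_card N))
    have hgN : g ∉ N := fun hm => hqN (hg ▸ Subgroup.orderOf_dvd_natCard N hm)
    have hgq : g ^ q = 1 := hg ▸ pow_orderOf_eq_one g
    have hnil : Group.IsNilpotent N := by
      refine CfsgLib.ThompsonFpf.isNilpotent_of_conj (p := q) N g
        (by rw [normalizer_eq_top]; exact mem_top g) hgq ((eq_bot_iff_forall _).mpr fun x hx => ?_)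
      obtain ⟨hxN, hxc⟩ := mem_inf.mp hx
      exact h.eq_one_of_commute hgN hxN (mem_Cx.mp hxc).symm
        (coprime_orderOf hq ⟨1, by rw [pow_one]; exact hgq⟩ hqN hxN)
    obtain ⟨S⟩ : Nonempty (Sylow p N) := inferInstance
    haveI := hnil
    haveI : (S : Subgroup N).Normal := inferInstance
    haveI := S.characteristic_of_normal ‹_›
    set K : Subgroup G := (S : Subgroup N).map N.subtype
    haveI : K.Normal := ConjAct.normal_of_characteristic_of_normal
    have hKN : K ≤ N := map_subtype_le _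
    have hnil' : Group.IsNilpotent (N.map (QuotientGroup.mk' K)) :=
      Group.nilpotent_of_surjective ((QuotientGroup.mk' K).subgroupMap N)
        (MonoidHom.subgroupMap_surjective _ N)
    refine h.false_of_quotient hKN hnil' (fun hle => ?_) ?_ hpN hpi
    · have hT : (S : Subgroup N) = ⊤ := eq_top_iff.mpr fun n _ =>
        (mem_map_iff_mem N.subtype_injective).mp (hle n.2 : N.subtype n ∈ (S : Subgroup N).map N.subtype)
      obtain ⟨j, hj⟩ := IsPGroup.iff_card.mp S.isPGroup'
      rw [hT, card_top] at hj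
      refine hN3 ⟨p, j, hp.prime, Nat.pos_of_ne_zero fun e0 => ?_, hj.symm⟩
      rw [e0, pow_zero] at hj
      exact hN1 (card_eq_one.mp hj)
    · rw [relIndex, subgroupOf, comap_map_eq_self_of_injective N.subtype_injective]
      exact S.not_dvd_index

end CfsgLib.CaminaPair69
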